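import Groth.Agent.Lib.SecDeg26.Algebra
import Groth.Agent.Lib.DimCut.Basic
import Groth.Agent.Lib.Equidim6.RelDim
import Groth.Agent.Lib.Kleiman.Proper
import Mathlib.AlgebraicGeometry.Morphisms.UniversallyOpen
import Mathlib.AlgebraicGeometry.Morphisms.Proper

/-!
# Curves through a point dominating a given curve
-/

set_option autoImplicit false
set_option linter.style.haveILetI false
universe u

open CategoryTheory CategoryTheory.Limits AlgebraicGeometry TopologicalSpace

namespace GrothLib.CurveThrough5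

open GrothLib.AffDom (ptDim)

variable {K : Type u} [Field K]

/-- The points strictly below a point of dimension at most one are closed. -/
theorem isClosed_singleton_of_lt {Y : Scheme.{u}} (h : Y ⟶ Spec (CommRingCat.of K)) [LocallyOfFiniteType h]
    {c w : Y} (hc : ptDim c ≤ 1) (hw : c ⤳ w) (hne : c ≠ w) : IsClosed ({w} : Set Y) := by
  have h1 : ptDim w < 1 := (Equidim6.ptDim_lt_of_specializes h hw hne).trans_le hc
  by_contra hcl
  obtain ⟨v, hv, hvw⟩ : ∃ v, w ⤳ v ∧ w ≠ v := by
    by_contra hcon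
    push_neg at hcon
    refine hcl ?_
    have : closure ({w} : Set Y) = {w} := subset_antisymm
      (fun v hv => (hcon v (specializes_iff_mem_closure.2 hv)).symm) subset_closure
    exact this ▸ isClosed_closure
  have h2 := Equidim6.ptDim_lt_of_specializes h hv hvw
  have h3 : (0 : WithBot ℕ∞) ≤ ptDim v := AffDom.ptDim_nonneg v
  have h4 : ptDim w < (0 : WithBot ℕ∞) + 1 := by rwa [zero_add]
  revert h1 h2 h3
  generalize ptDim w = a
  generalize ptDim v = b
  intro h1 h2 h3
  induction b with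
  | bot => exact absurd h3 (by simp)
  | coe b =>
    induction a with
    | bot => exact absurd h2 not_lt_bot
    | coe a =>
      have ha : a < 1 := WithBot.coe_lt_coe.1 h1
      have hb : b < a := WithBot.coe_lt_coe.1 h2
      rw [Order.lt_one_iff] at ha
      exact absurd (ha ▸ hb) not_lt_zero

/-- A closed set with closed points in a Noetherian scheme is finite. -/
theorem finite_of_closed_points {Y : Scheme.{u}} [IsNoetherian Y] {S : Set Y} (hS : IsClosed S)
    (h : ∀ w ∈ S, IsClosed ({w} : Set Y)) : S.Finite := by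
  obtain ⟨T, hTf, hTc, hTi, hT⟩ := NoetherianSpace.exists_finite_set_isClosed_irreducible hS
  rw [hT]
  refine hTf.sUnion fun t ht => ?_
  obtain ⟨w, hw⟩ := QuasiSober.sober (hTi t ht) (hTc t ht)
  have hwS : w ∈ S := by rw [hT]; exact Set.mem_sUnion.2 ⟨t, ht, hw.mem⟩
  rw [← hw.def, (h w hwS).closure_eq]
  exact Set.finite_singleton w

variable {Y Z : Scheme.{u}} (f : Y ⟶ Z) (h : Y ⟶ Spec (CommRingCat.of K)) [LocallyOfFiniteType h]

include h in
/-- A point of dimension at most one through `q`, under `e`, not over `f q`. -/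
theorem exists_point [IsLocallyNoetherian Y] {e q : Y} (heq : e ⤳ q) (hq : IsClosed ({q} : Set Y))
    (hne : f e ≠ f q) :
    ∃ c : Y, e ⤳ c ∧ c ⤳ q ∧ ptDim c ≤ 1 ∧ f c ≠ f q := by
  obtain ⟨_, ⟨U, hU : IsAffineOpen U, rfl⟩, hqU, -⟩ :=
    Z.isBasis_affineOpens.exists_subset_of_mem_open (Set.mem_univ (f q)) isOpen_univ
  obtain ⟨_, ⟨V, hV : IsAffineOpen V, rfl⟩, hqV, hVU⟩ :=
    Y.isBasis_affineOpens.exists_subset_of_mem_open (show q ∈ (f ⁻¹ᵁ U : Set Y) from hqU) (f ⁻¹ᵁ U).2
  have eVU : V ≤ f ⁻¹ᵁ U := hVU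
  have heV : e ∈ V := heq.mem_open V.2 hqV
  haveI : IsNoetherianRing Γ(Y, V) := IsLocallyNoetherian.component_noetherian ⟨V, hV⟩
  set m := hV.primeIdealOf ⟨q, hqV⟩ with hm
  set e' := hV.primeIdealOf ⟨e, heV⟩ with he'
  set P := hU.primeIdealOf ⟨f q, eVU hqV⟩ with hP
  set P₀ := hU.primeIdealOf ⟨f e, eVU heV⟩ with hP₀
  have hem : e'.asIdeal ≤ m.asIdeal := (PrimeSpectrum.le_iff_specializes e' m).2
    (hV.fromSpec.isEmbedding.isInducing.specializes_iff.1
      (by rw [hV.fromSpec_primeIdealOf, hV.fromSpec_primeIdealOf]; exact heq))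
  obtain ⟨a, haP, ha0⟩ : ∃ a, a ∈ P.asIdeal ∧ a ∉ P₀.asIdeal := by
    by_contra hcon
    push_neg at hcon
    have h1 : P ⤳ P₀ := (PrimeSpectrum.le_iff_specializes P P₀).1 hcon
    have h2 : f q ⤳ f e := by
      have := h1.map hU.fromSpec.continuous
      rwa [hU.fromSpec_primeIdealOf, hU.fromSpec_primeIdealOf] at this
    exact hne (((heq.map f.continuous).antisymm h2).eq)
  set b := (f.appLE U V eVU).hom a with hb
  have key : ∀ (y : Y) (hy : y ∈ V), b ∈ (hV.primeIdealOf ⟨y, hy⟩).asIdeal ↔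
      a ∈ (hU.primeIdealOf ⟨f y, eVU hy⟩).asIdeal := fun y hy => by
    rw [← IsAffineOpen.comap_primeIdealOf_appLE U hU V hV eVU hy]
    rfl
  have hbm : b ∈ m.asIdeal := (key q hqV).2 haP
  have hbe : b ∉ e'.asIdeal := fun hbb => ha0 ((key e heV).1 hbb)
  let π := Ideal.Quotient.mk e'.asIdeal
  haveI : (m.asIdeal.map π).IsPrime :=
    Ideal.map_isPrime_of_surjective Ideal.Quotient.mk_surjective (by rwa [Ideal.mk_ker])
  obtain ⟨p, hp, hpm, hbp, hcov⟩ := SecDeg26.exists_prime_covBy (m.asIdeal.map π)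
    (Ideal.mem_map_of_mem π hbm) Ideal.isPrime_bot bot_le
    (fun hh => hbe (Ideal.Quotient.eq_zero_iff_mem.1 hh))
  let p' : PrimeSpectrum Γ(Y, V) := ⟨p.comap π, Ideal.IsPrime.comap π⟩
  have hep : e'.asIdeal ≤ p'.asIdeal := fun z hz => by
    show π z ∈ p
    rw [Ideal.Quotient.eq_zero_iff_mem.2 hz]
    exact p.zero_mem
  have hmm : (m.asIdeal.map π).comap π = m.asIdeal := by
    rw [Ideal.comap_map_of_surjective _ Ideal.Quotient.mk_surjective]
    exact sup_eq_left.2 (le_trans (le_of_eq Ideal.mk_ker) hem)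
  have hpm' : p'.asIdeal ≤ m.asIdeal := hmm ▸ Ideal.comap_mono hpm
  have hbp' : b ∉ p'.asIdeal := hbp
  have hc1 : e ⤳ hV.fromSpec p' := by
    have := ((PrimeSpectrum.le_iff_specializes e' p').1 hep).map hV.fromSpec.continuous
    rwa [hV.fromSpec_primeIdealOf] at this
  have hc2 : hV.fromSpec p' ⤳ q := by
    have := ((PrimeSpectrum.le_iff_specializes p' m).1 hpm').map hV.fromSpec.continuous
    rwa [hV.fromSpec_primeIdealOf] at this
  have hcV : hV.fromSpec p' ∈ V := hV.range_fromSpec.le ⟨p', rfl⟩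
  have hpi : hV.primeIdealOf ⟨_, hcV⟩ = p' :=
    hV.fromSpec.isOpenEmbedding.injective (hV.fromSpec_primeIdealOf _)
  refine ⟨hV.fromSpec p', hc1, hc2, ?_, fun hfc => hbp' ?_⟩
  swap
  · rw [← hpi, key _ hcV]
    have : (⟨f (hV.fromSpec p'), eVU hcV⟩ : U) = ⟨f q, eVU hqV⟩ := Subtype.ext hfc
    rw [this]
    exact haP
  have hdim := DimCut.ptDim_le_add_length h hV [b] (hV.fromSpec '' PrimeSpectrum.zeroLocus {b})
    (by rw [Set.preimage_image_eq _ hV.fromSpec.isOpenEmbedding.injective, Ideal.ofList_singleton,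
      PrimeSpectrum.zeroLocus_span])
    hqV (η := hV.fromSpec p') ⟨m, Set.singleton_subset_iff.2 hbm, hV.fromSpec_primeIdealOf _⟩ hc2
    (fun w hw hcw hwq => ?_)
  · rwa [Kleiman.ptDim_eq_zero_of_isClosed hq, zero_add] at hdim
  · obtain ⟨r, hr, rfl⟩ := hw
    have h1 : p'.asIdeal ≤ r.asIdeal := (PrimeSpectrum.le_iff_specializes p' r).2
      (hV.fromSpec.isEmbedding.isInducing.specializes_iff.1 hcw)
    have h2 : r.asIdeal ≤ m.asIdeal := (PrimeSpectrum.le_iff_specializes r m).2
      (hV.fromSpec.isEmbedding.isInducing.specializes_iff.1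
        (by rw [hV.fromSpec_primeIdealOf]; exact hwq))
    have hker : RingHom.ker π ≤ r.asIdeal := le_trans (le_of_eq Ideal.mk_ker) (hep.trans h1)
    have hrr : (r.asIdeal.map π).comap π = r.asIdeal := by
      rw [Ideal.comap_map_of_surjective _ Ideal.Quotient.mk_surjective]
      exact sup_eq_left.2 hker
    haveI : (r.asIdeal.map π).IsPrime :=
      Ideal.map_isPrime_of_surjective Ideal.Quotient.mk_surjective hker
    have h1' : p ≤ r.asIdeal.map π := by
      rw [← Ideal.map_comap_of_surjective π Ideal.Quotient.mk_surjective p]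
      exact Ideal.map_mono h1
    rcases hcov _ inferInstance h1' (Ideal.map_mono h2) with h3 | h3
    · refine absurd ?_ hbp'
      have : r.asIdeal = p'.asIdeal := hrr.symm.trans (congrArg (Ideal.comap π) h3)
      exact this ▸ Set.singleton_subset_iff.1 hr
    · have : r = m := PrimeSpectrum.ext (hrr.symm.trans ((congrArg (Ideal.comap π) h3).trans hmm))
      rw [this]
      exact hV.fromSpec_primeIdealOf _

include h in
/-- A curve through a given point dominating a given curve, for a proper flat morphism. -/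
theorem exists_curve [IsNoetherian Y] (g : Z ⟶ Spec (CommRingCat.of K)) [LocallyOfFiniteType g]
    [IsProper f] [Flat f] (B : Set Z) (hBc : IsClosed B) (hBi : IsIrreducible B)
    (hBd : topologicalKrullDim ↥B = 1) (q : Y) (hqc : IsClosed ({q} : Set Y)) (hq : f q ∈ B)
    (hfq : IsClosed ({f q} : Set Z)) :
    ∃ B' : Set Y, IsClosed B' ∧ IsIrreducible B' ∧ q ∈ B' ∧ f '' B' = B ∧
      ∀ z : Z, (B' ∩ f ⁻¹' {z}).Finite := by
  obtain ⟨η, hη⟩ := QuasiSober.sober hBi hBc
  have hηB : closure ({η} : Set Z) = B := hη.def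
  have hηd : ptDim η ≤ 1 := by
    show topologicalKrullDim (closure ({η} : Set Z)) ≤ 1
    rw [hηB, hBd]
  have hηne : η ≠ f q := fun h' => by
    have h1 : ptDim η = 0 := Kleiman.ptDim_eq_zero_of_isClosed (h' ▸ hfq)
    have h2 : topologicalKrullDim (closure ({η} : Set Z)) = 1 := by rw [hηB, hBd]
    exact zero_ne_one (h1.symm.trans h2)
  obtain ⟨e, heq, hfe⟩ := Flat.generalizingMap f (hη.specializes hq)
  obtain ⟨c, hec, hcq, hcd, hfc⟩ := exists_point f h heq hqc (hfe ▸ hηne)
  have hcB : η ⤳ f c := hfe ▸ hec.map f.continuous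
  have hfcη : f c = η := by
    by_contra hne
    have hcl := isClosed_singleton_of_lt g hηd hcB (Ne.symm hne)
    exact hfc ((hcq.map f.continuous).mem_closed hcl rfl).symm
  refine ⟨closure {c}, isClosed_closure, isIrreducible_singleton.closure, hcq.mem_closure, ?_, fun z => ?_⟩
  · rw [← f.isClosedMap.closure_image_eq_of_continuous f.continuous, Set.image_singleton, hfcη, hηB]
  · by_cases hz : z = η
    · refine (Set.finite_singleton c).subset fun w ⟨hw, hwz⟩ => ?_
      by_contra hne
      have hcl := isClosed_singleton_of_lt h hcd (specializes_iff_mem_closure.2 hw) (Ne.symm hne)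
      have hcl' := f.isClosedMap _ hcl
      rw [Set.image_singleton, show f w = z from hwz, hz] at hcl'
      exact hηne (Set.mem_singleton_iff.1 ((hη.specializes hq).mem_closed hcl' rfl)).symm
    · by_cases hzB : η ⤳ z
      · have hzc := isClosed_singleton_of_lt g hηd hzB (Ne.symm hz)
        refine finite_of_closed_points (isClosed_closure.inter (hzc.preimage f.continuous)) fun w hw => ?_
        refine isClosed_singleton_of_lt h hcd (specializes_iff_mem_closure.2 hw.1) fun hcw => hz ?_
        rw [← show f w = z from hw.2, ← hcw, hfcη]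
      · refine Set.finite_empty.subset fun w ⟨hw, hwz⟩ => hzB ?_
        have := (specializes_iff_mem_closure.2 hw).map f.continuous
        rwa [hfcη, show f w = z from hwz] at this

end GrothLib.CurveThrough5
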